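import Mathlib.Algebra.Homology.HomologicalComplexAbelian
import Mathlib.Algebra.Homology.HomologySequenceLemmas
import Mathlib.Algebra.Homology.HomologicalComplexLimits
import Mathlib.Algebra.Homology.QuasiIso
import Mathlib.CategoryTheory.Abelian.Basic
import Mathlib.CategoryTheory.Abelian.Refinements

/-!
# The disk complex of a graded object (helper74)

For a family `X : ℤ → A` of objects of an abelian category, `disk X` is the cochain complex with
`(disk X)^m = X m ⊞ X (m - 1)` and differential `(x, y) ↦ (0, x)`. It is acyclic, functorial in `X`,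
and for a cochain complex `K` there is a canonical morphism `diskε K : disk K.X ⟶ K`,
`(x, y) ↦ x + d y`.
-/

set_option autoImplicit false
universe v u

open CategoryTheory CategoryTheory.Limits

namespace Groth.Agent.Lib.Helper74.DimRes

variable {A : Type u} [Category.{v} A] [Abelian A]

/-- the identification `X m = X (m + 1 - 1)` -/
def shiftEq (X : ℤ → A) (m : ℤ) : X m ⟶ X (m + 1 - 1) :=
  eqToHom (by rw [add_sub_cancel_right])

instance (X : ℤ → A) (m : ℤ) : IsIso (shiftEq X m) := by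
  unfold shiftEq; infer_instance

omit [Abelian A] in
lemma shiftEq_naturality {X Y : ℤ → A} (f : ∀ m, X m ⟶ Y m) (m : ℤ) :
    f m ≫ shiftEq Y m = shiftEq X m ≫ f (m + 1 - 1) := by
  have h : ∀ (a b : ℤ) (h : a = b),
      f a ≫ eqToHom (congrArg Y h) = eqToHom (congrArg X h) ≫ f b := by
    intro a b h
    subst h
    simp
  exact h m (m + 1 - 1) (by rw [add_sub_cancel_right])

/-- the differential of the disk complex -/
noncomputable def diskD (X : ℤ → A) (m : ℤ) :
    (X m ⊞ X (m - 1)) ⟶ (X (m + 1) ⊞ X (m + 1 - 1)) :=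
  biprod.fst ≫ shiftEq X m ≫ biprod.inr

lemma diskD_comp (X : ℤ → A) (m : ℤ) : diskD X m ≫ diskD X (m + 1) = 0 := by
  unfold diskD
  simp

/-- the disk complex of a graded object -/
noncomputable def disk (X : ℤ → A) : CochainComplex A ℤ :=
  CochainComplex.of (fun m => X m ⊞ X (m - 1)) (diskD X) (diskD_comp X)

lemma disk_X (X : ℤ → A) (m : ℤ) : (disk X).X m = (X m ⊞ X (m - 1)) := rfl

lemma disk_d (X : ℤ → A) (m : ℤ) : (disk X).d m (m + 1) = diskD X m :=
  CochainComplex.of_d (fun m => X m ⊞ X (m - 1)) (diskD X) m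

lemma diskD_naturality {X Y : ℤ → A} (f : ∀ m, X m ⟶ Y m) (m : ℤ) :
    biprod.map (f m) (f (m - 1)) ≫ diskD Y m =
      diskD X m ≫ biprod.map (f (m + 1)) (f (m + 1 - 1)) := by
  unfold diskD
  rw [biprod.map_fst_assoc, Category.assoc, Category.assoc, biprod.inr_map,
    ← Category.assoc (shiftEq X m), ← shiftEq_naturality f m, Category.assoc]

/-- functoriality of the disk complex -/
noncomputable def diskMap {X Y : ℤ → A} (f : ∀ m, X m ⟶ Y m) : disk X ⟶ disk Y :=
  CochainComplex.ofHom (X := disk X) (Y := disk Y)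
    (fun m => (biprod.map (f m) (f (m - 1)) : (X m ⊞ X (m - 1)) ⟶ (Y m ⊞ Y (m - 1)))) (fun m => by
    rw [disk_d, disk_d]
    exact diskD_naturality f m)

lemma diskMap_f {X Y : ℤ → A} (f : ∀ m, X m ⟶ Y m) (m : ℤ) :
    (diskMap f).f m = biprod.map (f m) (f (m - 1)) := rfl

instance {X Y : ℤ → A} (f : ∀ m, X m ⟶ Y m) [∀ m, Mono (f m)] : Mono (diskMap f) := by
  have : ∀ m, Mono ((diskMap f).f m) := fun m => by
    rw [diskMap_f]
    exact biprod.map_mono (f m) (f (m - 1))
  exact HomologicalComplex.mono_of_mono_f _ this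

lemma diskD_exact (X : ℤ → A) (i : ℤ) :
    (ShortComplex.mk (diskD X i) (diskD X (i + 1)) (diskD_comp X i)).Exact := by
  rw [ShortComplex.exact_iff_exact_up_to_refinements]
  intro B x₂ hx₂
  dsimp at x₂ hx₂
  have h0 : x₂ ≫ (biprod.fst : X (i + 1) ⊞ X (i + 1 - 1) ⟶ X (i + 1)) = 0 := by
    unfold diskD at hx₂
    have hm : Mono (shiftEq X (i + 1) ≫
        (biprod.inr : X (i + 1 + 1 - 1) ⟶ X (i + 1 + 1) ⊞ X (i + 1 + 1 - 1))) :=
      mono_comp _ _
    rw [← cancel_mono (shiftEq X (i + 1) ≫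
        (biprod.inr : X (i + 1 + 1 - 1) ⟶ X (i + 1 + 1) ⊞ X (i + 1 + 1 - 1))), zero_comp,
      Category.assoc]
    exact hx₂
  refine ⟨B, 𝟙 B, inferInstance,
    x₂ ≫ (biprod.snd : X (i + 1) ⊞ X (i + 1 - 1) ⟶ X (i + 1 - 1)) ≫ inv (shiftEq X i) ≫
      (biprod.inl : X i ⟶ X i ⊞ X (i - 1)), ?_⟩
  dsimp
  unfold diskD
  rw [Category.id_comp]
  simp only [Category.assoc, biprod.inl_fst_assoc, IsIso.inv_hom_id_assoc]
  apply biprod.hom_ext
  · rw [h0, Category.assoc, Category.assoc, biprod.inr_fst, comp_zero, comp_zero]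
  · rw [Category.assoc, Category.assoc, biprod.inr_snd, Category.comp_id]

/-- the disk complex is acyclic -/
lemma disk_acyclic (X : ℤ → A) : (disk X).Acyclic := by
  intro j
  obtain ⟨i, rfl⟩ : ∃ i, j = i + 1 := ⟨j - 1, (sub_add_cancel j 1).symm⟩
  rw [HomologicalComplex.exactAt_iff' _ i (i + 1) (i + 1 + 1) (by simp) (by simp)]
  have e1 : (HomologicalComplex.sc' (disk X) i (i + 1) (i + 1 + 1)).f = diskD X i := disk_d X i
  have e2 : (HomologicalComplex.sc' (disk X) i (i + 1) (i + 1 + 1)).g = diskD X (i + 1) :=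
    disk_d X (i + 1)
  refine ShortComplex.exact_of_iso
    (S₁ := ShortComplex.mk (diskD X i) (diskD X (i + 1)) (diskD_comp X i))
    (ShortComplex.isoMk (Iso.refl _) (Iso.refl _) (Iso.refl _) ?_ ?_) (diskD_exact X i)
  · exact (Category.id_comp _).trans (e1.trans (Category.comp_id _).symm)
  · exact (Category.id_comp _).trans (e2.trans (Category.comp_id _).symm)

lemma diskε_comm (K : CochainComplex A ℤ) (m : ℤ) :
    (biprod.desc (𝟙 (K.X m)) (K.d (m - 1) m) : (K.X m ⊞ K.X (m - 1)) ⟶ K.X m) ≫ K.d m (m + 1) =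
      diskD K.X m ≫
        (biprod.desc (𝟙 (K.X (m + 1))) (K.d (m + 1 - 1) (m + 1)) :
          (K.X (m + 1) ⊞ K.X (m + 1 - 1)) ⟶ K.X (m + 1)) := by
  unfold diskD
  apply biprod.hom_ext'
  · simp only [Category.assoc, biprod.inl_desc_assoc, Category.id_comp, biprod.inl_fst_assoc,
      biprod.inr_desc]
    unfold shiftEq
    exact (HomologicalComplex.XIsoOfEq_hom_comp_d K (by rw [add_sub_cancel_right]) (m + 1)).symm
  · simp only [Category.assoc, biprod.inr_desc_assoc, K.d_comp_d, biprod.inr_fst_assoc, zero_comp]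

/-- the canonical morphism `disk K.X ⟶ K`, `(x, y) ↦ x + d y` -/
noncomputable def diskε (K : CochainComplex A ℤ) : disk K.X ⟶ K :=
  CochainComplex.ofHom (X := disk K.X) (Y := K)
    (fun m => (biprod.desc (𝟙 (K.X m)) (K.d (m - 1) m) : (K.X m ⊞ K.X (m - 1)) ⟶ K.X m))
    (fun m => by
      rw [disk_d]
      exact diskε_comm K m)

lemma diskε_f (K : CochainComplex A ℤ) (m : ℤ) :
    (diskε K).f m = biprod.desc (𝟙 (K.X m)) (K.d (m - 1) m) := rfl

end Groth.Agent.Lib.Helper74.DimRes
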