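import Groth.Agent.Lib.Helper74.DimRes.Disk

/-!
# One step of the dimension-lowering replacement (helper74)

Given a cochain complex `K` and monomorphisms `ι m : K.X m ⟶ M m`, the pushout `repl K ι` of
`diskε K : disk K.X ⟶ K` along `diskMap ι : disk K.X ⟶ disk M` receives a quasi-isomorphism
`replInl K ι : K ⟶ repl K ι`, and sits degreewise in short exact sequences
`0 ⟶ K.X (m - 1) ⟶ M m ⊞ M (m - 1) ⟶ (repl K ι).X m ⟶ 0`.
-/

set_option autoImplicit false
universe v u

open CategoryTheory CategoryTheory.Limits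

namespace Groth.Agent.Lib.Helper74.DimRes

variable {A : Type u} [Category.{v} A] [Abelian A]

/-- in a short exact sequence of cochain complexes with acyclic cokernel, the inclusion is a
quasi-isomorphism -/
lemma quasiIso_f_of_acyclic_X₃ {S : ShortComplex (CochainComplex A ℤ)} (hS : S.ShortExact)
    (h : S.X₃.Acyclic) : QuasiIso S.f := by
  rw [quasiIso_iff]
  intro i
  rw [quasiIsoAt_iff_isIso_homologyMap]
  have hm : Mono (HomologicalComplex.homologyMap S.f i) := by
    have hij : (ComplexShape.up ℤ).Rel (i - 1) i := by simp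
    exact (hS.homology_exact₁ (i - 1) i hij).mono_g
      (IsZero.eq_of_src ((HomologicalComplex.exactAt_iff_isZero_homology _ _).1 (h (i - 1))) _ _)
  have he : Epi (HomologicalComplex.homologyMap S.f i) :=
    (hS.homology_exact₂ i).epi_f
      (IsZero.eq_of_tgt ((HomologicalComplex.exactAt_iff_isZero_homology _ _).1 (h i)) _ _)
  exact isIso_of_mono_of_epi _

/-- a morphism between acyclic complexes is a quasi-isomorphism -/
lemma quasiIso_of_acyclic {K L : CochainComplex A ℤ} (f : K ⟶ L) (hK : K.Acyclic)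
    (hL : L.Acyclic) : QuasiIso f := by
  rw [quasiIso_iff]
  intro i
  rw [quasiIsoAt_iff_exactAt f i (hK i)]
  exact hL i

section

variable (K : CochainComplex A ℤ) {M : ℤ → A} (ι : ∀ m, K.X m ⟶ M m)

/-- the replacement complex -/
noncomputable def repl : CochainComplex A ℤ :=
  pushout (diskε K) (diskMap (X := K.X) (Y := M) ι)

/-- the canonical map `K ⟶ repl K ι` -/
noncomputable def replInl : K ⟶ repl K ι :=
  pushout.inl (diskε K) (diskMap (X := K.X) (Y := M) ι)

/-- the canonical map `disk M ⟶ repl K ι` -/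
noncomputable def replInr : disk M ⟶ repl K ι :=
  pushout.inr (diskε K) (diskMap (X := K.X) (Y := M) ι)

lemma repl_condition :
    diskε K ≫ replInl K ι = diskMap (X := K.X) (Y := M) ι ≫ replInr K ι :=
  pushout.condition

lemma repl_isPushout :
    IsPushout (diskε K) (diskMap (X := K.X) (Y := M) ι) (replInl K ι) (replInr K ι) :=
  IsPushout.of_hasPushout _ _

/-- the projection to the cokernel of `diskMap ι` -/
noncomputable def replπ : repl K ι ⟶ cokernel (diskMap (X := K.X) (Y := M) ι) :=
  pushout.desc 0 (cokernel.π _) (by rw [comp_zero, cokernel.condition])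

lemma replInl_π : replInl K ι ≫ replπ K ι = 0 :=
  pushout.inl_desc _ _ _

lemma replInr_π : replInr K ι ≫ replπ K ι = cokernel.π _ :=
  pushout.inr_desc _ _ _

instance : Epi (replπ K ι) := epi_of_epi_fac (replInr_π K ι)

instance [∀ m, Mono (ι m)] : Mono (replInl K ι) := by
  have : Mono (diskMap (X := K.X) (Y := M) ι) := inferInstance
  exact Abelian.mono_pushout_of_mono_g (diskε K) (diskMap (X := K.X) (Y := M) ι)

/-- `replπ` is a cokernel of `replInl` -/
noncomputable def replIsCokernel :
    IsColimit (CokernelCofork.ofπ (replπ K ι) (replInl_π K ι)) :=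
  CokernelCofork.IsColimit.ofπ _ _
    (fun {T} t ht => cokernel.desc (diskMap (X := K.X) (Y := M) ι) (replInr K ι ≫ t) (by
      rw [← Category.assoc, ← repl_condition, Category.assoc, ht, comp_zero]))
    (fun {T} t ht => by
      apply (repl_isPushout K ι).hom_ext
      · rw [← Category.assoc, replInl_π, zero_comp, ht]
      · rw [← Category.assoc, replInr_π, cokernel.π_desc])
    (fun {T} t ht m hm => by
      rw [← cancel_epi (replπ K ι), hm]
      apply (repl_isPushout K ι).hom_ext
      · rw [← Category.assoc, replInl_π, zero_comp, ht]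
      · rw [← Category.assoc, replInr_π, cokernel.π_desc])

lemma repl_shortExact [∀ m, Mono (ι m)] :
    (ShortComplex.mk (replInl K ι) (replπ K ι) (replInl_π K ι)).ShortExact :=
  ShortComplex.ShortExact.mk'
    (ShortComplex.exact_of_g_is_cokernel _ (replIsCokernel K ι)) inferInstance inferInstance

lemma coker_diskMap_acyclic [∀ m, Mono (ι m)] :
    (cokernel (diskMap (X := K.X) (Y := M) ι)).Acyclic := by
  have hS : (ShortComplex.mk (diskMap (X := K.X) (Y := M) ι) (cokernel.π _)
      (cokernel.condition _)).ShortExact :=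
    ShortComplex.ShortExact.mk'
      (ShortComplex.exact_of_g_is_cokernel _ (cokernelIsCokernel _)) inferInstance inferInstance
  exact hS.acyclic_X₃ (quasiIso_of_acyclic _ (disk_acyclic _) (disk_acyclic _))

/-- Lemma A: `K ⟶ repl K ι` is a quasi-isomorphism. -/
lemma quasiIso_replInl [∀ m, Mono (ι m)] : QuasiIso (replInl K ι) :=
  quasiIso_f_of_acyclic_X₃ (repl_shortExact K ι) (coker_diskMap_acyclic K ι)

end

section Degreewise

variable (K : CochainComplex A ℤ) {M : ℤ → A} (ι : ∀ m, K.X m ⟶ M m) (m : ℤ)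

/-- the map `(x, y) ↦ x + d y` in degree `m`, with explicit source -/
noncomputable def epsF : (K.X m ⊞ K.X (m - 1)) ⟶ K.X m :=
  biprod.desc (𝟙 (K.X m)) (K.d (m - 1) m)

/-- `(replInr K ι).f m` with explicit source -/
noncomputable def replQ : (M m ⊞ M (m - 1)) ⟶ (repl K ι).X m := (replInr K ι).f m

lemma repl_isPushout_f :
    IsPushout (epsF K m) (biprod.map (ι m) (ι (m - 1))) ((replInl K ι).f m) (replQ K ι m) :=
  (repl_isPushout K ι).map (HomologicalComplex.eval A (ComplexShape.up ℤ) m)

/-- Lemma C: where `ι` is invertible in degrees `m` and `m - 1`, so is `K ⟶ repl K ι`. -/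
lemma isIso_replInl_f [IsIso (ι m)] [IsIso (ι (m - 1))] : IsIso ((replInl K ι).f m) := by
  have : IsIso (biprod.map (ι m) (ι (m - 1))) :=
    (biprod.mapIso (asIso (ι m)) (asIso (ι (m - 1)))).isIso_hom
  exact (repl_isPushout_f K ι m).isIso_inl_of_isIso

/-- the map `y ↦ (- ι (d y), ι y)` -/
noncomputable def replK : K.X (m - 1) ⟶ (M m ⊞ M (m - 1)) :=
  biprod.lift (-(K.d (m - 1) m ≫ ι m)) (ι (m - 1))

lemma replK_eq :
    replK K ι m = (biprod.lift (-(K.d (m - 1) m)) (𝟙 (K.X (m - 1))) :
      K.X (m - 1) ⟶ (K.X m ⊞ K.X (m - 1))) ≫ biprod.map (ι m) (ι (m - 1)) := by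
  unfold replK
  apply biprod.hom_ext
  · rw [biprod.lift_fst, Category.assoc, biprod.map_fst, biprod.lift_fst_assoc,
      Preadditive.neg_comp]
  · rw [biprod.lift_snd, Category.assoc, biprod.map_snd, biprod.lift_snd_assoc, Category.id_comp]

lemma lift_epsF :
    (biprod.lift (-(K.d (m - 1) m)) (𝟙 (K.X (m - 1))) :
      K.X (m - 1) ⟶ (K.X m ⊞ K.X (m - 1))) ≫ epsF K m = 0 := by
  unfold epsF
  rw [biprod.lift_desc, Category.comp_id, Category.id_comp, neg_add_cancel]

lemma replK_Q : replK K ι m ≫ replQ K ι m = 0 := by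
  rw [replK_eq, Category.assoc, ← (repl_isPushout_f K ι m).w, ← Category.assoc, lift_epsF,
    zero_comp]

instance [Mono (ι (m - 1))] : Mono (replK K ι m) := by
  have h : replK K ι m ≫ (biprod.snd : (M m ⊞ M (m - 1)) ⟶ M (m - 1)) = ι (m - 1) := by
    unfold replK
    rw [biprod.lift_snd]
  have : Mono (replK K ι m ≫ (biprod.snd : (M m ⊞ M (m - 1)) ⟶ M (m - 1))) := by
    rw [h]; infer_instance
  exact mono_of_mono (replK K ι m) (biprod.snd : (M m ⊞ M (m - 1)) ⟶ M (m - 1))

lemma inl_epsF : (biprod.inl : K.X m ⟶ (K.X m ⊞ K.X (m - 1))) ≫ epsF K m = 𝟙 _ := by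
  unfold epsF
  rw [biprod.inl_desc]

lemma replInl_f_eq :
    (replInl K ι).f m = ι m ≫ (biprod.inl : M m ⟶ (M m ⊞ M (m - 1))) ≫ replQ K ι m := by
  have h := (repl_isPushout_f K ι m).w
  calc (replInl K ι).f m
      = ((biprod.inl : K.X m ⟶ (K.X m ⊞ K.X (m - 1))) ≫ epsF K m) ≫ (replInl K ι).f m := by
        rw [inl_epsF, Category.id_comp]
    _ = _ := by
        rw [Category.assoc, h, biprod.inl_map_assoc]

instance : Epi (replQ K ι m) := by
  constructor
  intro Z a b hab
  apply (repl_isPushout_f K ι m).hom_ext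
  · rw [replInl_f_eq, Category.assoc, Category.assoc, Category.assoc, Category.assoc, hab]
  · exact hab

/-- the descent datum used for the cokernel property -/
lemma repl_desc_w {T : A} (t : (M m ⊞ M (m - 1)) ⟶ T) (ht : replK K ι m ≫ t = 0) :
    epsF K m ≫ (ι m ≫ (biprod.inl : M m ⟶ (M m ⊞ M (m - 1))) ≫ t) =
      biprod.map (ι m) (ι (m - 1)) ≫ t := by
  unfold epsF
  apply biprod.hom_ext'
  · rw [biprod.inl_desc_assoc, Category.id_comp, biprod.inl_map_assoc]
  · rw [biprod.inr_desc_assoc, biprod.inr_map_assoc]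
    have h2 : replK K ι m ≫ t =
        -(K.d (m - 1) m ≫ ι m ≫ (biprod.inl : M m ⟶ (M m ⊞ M (m - 1))) ≫ t) +
          ι (m - 1) ≫ (biprod.inr : M (m - 1) ⟶ (M m ⊞ M (m - 1))) ≫ t := by
      unfold replK
      rw [biprod.lift_eq, Preadditive.add_comp, Preadditive.neg_comp, Preadditive.neg_comp,
        Category.assoc, Category.assoc, Category.assoc]
    rw [ht] at h2
    exact neg_inj.1 (eq_neg_of_add_eq_zero_left h2.symm)

/-- `replQ` is a cokernel of `replK` -/
noncomputable def replQIsCokernel :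
    IsColimit (CokernelCofork.ofπ (replQ K ι m) (replK_Q K ι m)) :=
  CokernelCofork.IsColimit.ofπ _ _
    (fun {T} t ht => (repl_isPushout_f K ι m).desc
      (ι m ≫ (biprod.inl : M m ⟶ (M m ⊞ M (m - 1))) ≫ t) t (repl_desc_w K ι m t ht))
    (fun {T} t ht => (repl_isPushout_f K ι m).inr_desc _ _ _)
    (fun {T} t ht a ha => by
      rw [← cancel_epi (replQ K ι m), ha]
      exact ((repl_isPushout_f K ι m).inr_desc _ _ _).symm)

/-- Lemma B: the degreewise short exact sequence
`0 ⟶ K.X (m - 1) ⟶ M m ⊞ M (m - 1) ⟶ (repl K ι).X m ⟶ 0`. -/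
lemma repl_shortExact_f [Mono (ι (m - 1))] :
    (ShortComplex.mk (replK K ι m) (replQ K ι m) (replK_Q K ι m)).ShortExact :=
  ShortComplex.ShortExact.mk'
    (ShortComplex.exact_of_g_is_cokernel _ (replQIsCokernel K ι m)) inferInstance inferInstance

end Degreewise

end Groth.Agent.Lib.Helper74.DimRes
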