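import Mathlib.Algebra.Homology.HomologicalComplexLimitsEventuallyConstant
import Mathlib.CategoryTheory.Functor.OfSequence
import Mathlib.CategoryTheory.MorphismProperty.Composition

/-!
# Colimits of degreewise eventually constant systems of complexes (helper74)

Dual of `Mathlib.Algebra.Homology.HomologicalComplexLimitsEventuallyConstant`, plus a lemma on
morphism properties along `Functor.ofSequence`.
-/

set_option autoImplicit false
universe v u

open CategoryTheory CategoryTheory.Limits

namespace Groth.Agent.Lib.Helper74.DimRes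

section

variable {C J ι : Type*} [Category C] [Category J] {c : ComplexShape ι} [IsFiltered J]
  [HasZeroMorphisms C] (F : J ⥤ HomologicalComplex C c)
  [∀ (j : ι), HasColimit (F ⋙ HomologicalComplex.eval C c j)]
  {cF : Cocone F} (hcF : IsColimit cF)

include hcF

lemma isIso_ι_f_of_isColimit_of_isEventuallyConstantFrom
    (q : ι) (j : J) (hq : (F ⋙ HomologicalComplex.eval C c q).IsEventuallyConstantFrom j) :
    IsIso ((cF.ι.app j).f q) :=
  hq.isIso_ι_of_isColimit (isColimitOfPreserves (HomologicalComplex.eval C c q) hcF)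

lemma quasiIsoAt_ι_of_isColimit_of_isEventuallyConstantFrom
    [CategoryWithHomology C] (q₀ q₁ q₂ : ι)
    (h₀ : c.prev q₁ = q₀) (h₂ : c.next q₁ = q₂) (j : J)
    (hq₀ : (F ⋙ HomologicalComplex.eval C c q₀).IsEventuallyConstantFrom j)
    (hq₁ : (F ⋙ HomologicalComplex.eval C c q₁).IsEventuallyConstantFrom j)
    (hq₂ : (F ⋙ HomologicalComplex.eval C c q₂).IsEventuallyConstantFrom j) :
    QuasiIsoAt (cF.ι.app j) q₁ := by
  rw [quasiIsoAt_iff' _ q₀ q₁ q₂ h₀ h₂]
  let φ := (HomologicalComplex.shortComplexFunctor' C c q₀ q₁ q₂).map (cF.ι.app j)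
  have : IsIso φ.τ₁ := isIso_ι_f_of_isColimit_of_isEventuallyConstantFrom F hcF _ _ hq₀
  have : IsIso φ.τ₂ := isIso_ι_f_of_isColimit_of_isEventuallyConstantFrom F hcF _ _ hq₁
  have : IsIso φ.τ₃ := isIso_ι_f_of_isColimit_of_isEventuallyConstantFrom F hcF _ _ hq₂
  apply ShortComplex.quasiIso_of_epi_of_isIso_of_mono

end

section

variable {C : Type u} [Category.{v} C] {X : ℕ → C} (f : ∀ n, X n ⟶ X (n + 1))

/-- if all steps `f n`, `n ≥ a`, of a sequence satisfy a multiplicative morphism property, then so
do all transition maps from `a` on -/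
lemma ofSequence_map_mem (P : MorphismProperty C) [P.IsMultiplicative] (a : ℕ)
    (h : ∀ n, a ≤ n → P (f n)) (b : ℕ) (hab : a ≤ b) :
    P ((Functor.ofSequence f).map (homOfLE hab)) := by
  induction b, hab using Nat.le_induction with
  | base =>
    have : homOfLE (le_refl a) = 𝟙 a := Subsingleton.elim _ _
    rw [this, CategoryTheory.Functor.map_id]
    exact P.id_mem _
  | succ b hab ih =>
    have : homOfLE (hab.trans (Nat.le_add_right b 1)) =
        homOfLE hab ≫ homOfLE (Nat.le_add_right b 1) := Subsingleton.elim _ _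
    rw [this, CategoryTheory.Functor.map_comp, Functor.ofSequence_map_homOfLE_succ]
    exact P.comp_mem _ _ ih (h b hab)

lemma ofSequence_map_mem' (P : MorphismProperty C) [P.IsMultiplicative] (a : ℕ)
    (h : ∀ n, a ≤ n → P (f n)) {b c : ℕ} (hab : a ≤ b) (φ : b ⟶ c) :
    P ((Functor.ofSequence f).map φ) := by
  have hbc : b ≤ c := leOfHom φ
  have e : φ = homOfLE hbc := Subsingleton.elim _ _
  rw [e]
  exact ofSequence_map_mem f P b (fun n hn => h n (hab.trans hn)) c hbc

end

end Groth.Agent.Lib.Helper74.DimRes
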